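import Mathlib
import Cfsg.Agent.Lib.Helper9.PIdxA
import Cfsg.Agent.Lib.Helper10.PIdxBC
import Cfsg.Agent.Lib.Helper27.PIdxD
import Cfsg.Agent.Lib.Helper6.PIdxE
import Cfsg.Agent.Lib.Helper2.PIdxF
import Cfsg.Agent.Lib.Helper12.PIdxG
import Cfsg.Agent.Lib.Helper9.PIdxH
import Cfsg.Agent.Lib.Helper16.PIdxI
import Cfsg.Agent.Lib.Helper20.PIdxJ
import Cfsg.Agent.Lib.Helper22.PIdxK
import Cfsg.Agent.Lib.Helper28.PIdxL
import Cfsg.Agent.S4672
import Cfsg.Agent.Lib.Helper2.Linear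
import Cfsg.Agent.Lib.Helper2.Induction
import Cfsg.Agent.Lib.Helper7.DefectOrder

/-!
# S4640: assembly (helper24)

Leaves (farm): [A] helper9, [B][C] helper10, [D] helper27, [E] helper6, [F] helper2, [G] helper12,
[H] helper9, [I] helper16, [J] helper20, [K] helper22, [L] helper28.

`N ⊴ G` of `p`-power index, `b` a `G`-stable block of `N`, `B` a block of `G` covering `b`
with abelian defect group `P`.
-/

set_option autoImplicit false

namespace Cfsg.Agent.Lib.Helper24.PIdx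

open Cfsg Cfsg.Agent.Lib.Helper2 Cfsg.Agent.Lib.Helper7
open scoped ComplexConjugate

theorem centralizer_zpowers_eq_singleton {G : Type*} [Group G] (x : G) :
    Subgroup.centralizer ((Subgroup.zpowers x : Subgroup G) : Set G)
      = Subgroup.centralizer ({x} : Set G) := by
  rw [Subgroup.zpowers_eq_closure, Subgroup.centralizer_closure]

theorem main_S4640 {G : Type*} [Group G] [Fintype G] (p : ℕ) [Fact p.Prime]
    (M : Ideal Cfsg.AlgInt) (hM : Cfsg.IsPModular p M) (N : Subgroup G) [N.Normal] [Fintype N]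
    (hNi : ∃ k : ℕ, N.index = p ^ k) (b : Set (Cfsg.IrrCharacter N)) (hb : Cfsg.IsPBlock M b)
    (hstab : ∀ g : G, Cfsg.StabilizesBlock N b g) (B : Set (Cfsg.IrrCharacter G))
    (hB : Cfsg.IsPBlock M B)
    (hcov : ∃ χ ∈ B, ∃ θ ∈ b,
      Cfsg.classInner (fun n : N => (χ : G → ℂ) n) (θ : N → ℂ) ≠ 0)
    (P : Subgroup G) (hPD : Cfsg.IsDefectGroup p M B P)
    (hPab : ∀ x ∈ P, ∀ y ∈ P, x * y = y * x) :
    N ⊔ P = ⊤ ∧ Cfsg.IsDefectGroup p M b ((P ⊓ N).subgroupOf N) ∧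
      (∀ χ ∈ B, ∃ θ ∈ b, ∀ n : N, (χ : G → ℂ) n = (θ : N → ℂ) n) ∧
      (∀ θ ∈ b, Nat.card {χ : Cfsg.IrrCharacter G //
        χ ∈ B ∧ ∀ n : N, (χ : G → ℂ) n = (θ : N → ℂ) n} = N.index) ∧
      Nat.card B = N.index * Nat.card b ∧ Cfsg.blockRank p B = Cfsg.blockRank p b := by
  classical
  obtain ⟨hBc, hover, hunder⟩ := Helper9.cover_facts_spare hM N hNi b hb hstab B hB hcov
  obtain ⟨hsup, hdefb⟩ := (Cfsg.Agent.S4672.result p M hM N hNi b hb hstab).2 B hB hBc P hPD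
  have hreg : ∀ g : G, Cfsg.IsPRegular p g → g ∈ N :=
    fun g hg => mem_of_isPRegular (p := p) N hNi g hg
  have hab := comm_mod N P hsup hPab
  have hPp : IsPGroup p P := IsPGroup.of_card (card_of_isDefectGroup hM B hB P hPD)
  have hnv : ∀ χ ∈ B, ∀ u ∈ P, ∃ s : G, s * u = u * s ∧ Cfsg.IsPRegular p s ∧
      (χ : G → ℂ) (u * s) ≠ 0 := by
    intro χ hχ u hu
    obtain ⟨f, hind, hdef⟩ := exists_major hM B hB P hPD hPab u hu
    have hup : ∃ k : ℕ, orderOf u = p ^ k := by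
      obtain ⟨k, hk⟩ := (IsPGroup.iff_orderOf.mp hPp) ⟨u, hu⟩
      exact ⟨k, by rw [← hk, Subgroup.orderOf_mk]⟩
    exact exists_pregular_ne_zero_of_major hM B u hup _
      (centralizer_zpowers_eq_singleton u) f hind hdef χ hχ
  have hirr : ∀ χ ∈ B, Cfsg.classInner (fun n : N => (χ : G → ℂ) n)
      (fun n : N => (χ : G → ℂ) n) = 1 := fun χ hχ =>
    res_irreducible_of (p := p) N P hsup hreg χ (hnv χ hχ) (Helper2.classInner_res_eq_card_spare N hab χ χ)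
  have h3 : ∀ χ ∈ B, ∃ θ ∈ b, ∀ n : N, (χ : G → ℂ) n = (θ : N → ℂ) n := by
    intro χ hχ
    have hchar : Cfsg.IsCharacter N (fun n : N => (χ : G → ℂ) n) :=
      IsCharacter.restrict (IsIrrCharacter.isCharacter χ.2) N
    have hθ : Cfsg.IsIrrCharacter N (fun n : N => (χ : G → ℂ) n) :=
      isIrrCharacter_of_classInner_self_eq_one hchar (hirr χ hχ)
    refine ⟨⟨_, hθ⟩, hunder χ hχ ⟨_, hθ⟩ ?_, fun n => rfl⟩
    show Cfsg.classInner (fun n : N => (χ : G → ℂ) n) (fun n : N => (χ : G → ℂ) n) ≠ 0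
    rw [hirr χ hχ]
    exact one_ne_zero
  have h4 : ∀ θ ∈ b, Nat.card {χ : Cfsg.IrrCharacter G //
      χ ∈ B ∧ ∀ n : N, (χ : G → ℂ) n = (θ : N → ℂ) n} = N.index := fun θ hθ =>
    card_extensions N b B (Helper2.classInner_res_eq_card_spare N hab) (card_lin N hab) isIrrCharacter_lin_mul
      hover hirr θ hθ
  refine ⟨hsup, hdefb, h3, h4, card_eq_mul N b B N.index h3 h4, Helper28.blockRank_eq_spare N hreg b B h3 ?_⟩
  intro θ hθ
  have h := h4 θ hθ
  have hpos : 0 < Nat.card {χ : Cfsg.IrrCharacter G //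
      χ ∈ B ∧ ∀ n : N, (χ : G → ℂ) n = (θ : N → ℂ) n} := by
    rw [h]
    exact Nat.pos_of_ne_zero Subgroup.index_ne_zero_of_finite
  obtain ⟨⟨χ, hχ, hχθ⟩⟩ := (Nat.card_pos_iff.mp hpos).1
  exact ⟨χ, hχ, hχθ⟩

end Cfsg.Agent.Lib.Helper24.PIdx
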